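import Cfsg.Agent.Co3TwoM12.Cert.Wreath.Table

/-! The rules and relators of the certificate. -/

namespace Cfsg.Agent.Co3TwoM12.Cert.Wreath

open Cfsg.Agent.DCoset

/-- The relators. -/
def rels : List (Nat × Nat) := [(0, 6), (1, 9)]

/-- The rules and relators. -/
noncomputable abbrev rules : Rules := Cert.rules 0 rels

theorem rels_ok : Cert.relsOK rels = true := by decide +kernel

end Cfsg.Agent.Co3TwoM12.Cert.Wreath
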