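import Cfsg.Agent.Co3TwoM12.Cert.Wreath.CheckSteps0
import Cfsg.Agent.Co3TwoM12.Cert.Wreath.CheckSteps1
import Cfsg.Agent.Co3TwoM12.Cert.Wreath.CheckSteps2
import Cfsg.Agent.Co3TwoM12.Cert.Wreath.CheckSteps3
import Cfsg.Agent.Co3TwoM12.Cert.Wreath.CheckSteps4
import Cfsg.Agent.Co3TwoM12.Cert.Wreath.CheckSteps5
import Cfsg.Agent.Co3TwoM12.Cert.Wreath.CheckSteps6
import Cfsg.Agent.Co3TwoM12.Cert.Wreath.CheckCover
import Cfsg.Agent.Co3TwoM12.Cert.Wreath.CheckNodes0
import Cfsg.Agent.Co3TwoM12.Cert.Wreath.CheckNodes1
import Cfsg.Agent.Co3TwoM12.Cert.Wreath.CheckNodes2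
import Cfsg.Agent.Co3TwoM12.Cert.Wreath.CheckNodes3
import Cfsg.Agent.Co3TwoM12.Cert.Wreath.CheckNodes4

/-! Generated by tools/dcoset/emit.py: assembled certificate. -/

set_option Elab.async false
set_option maxRecDepth 100000

namespace Cfsg.Agent.Co3TwoM12.Cert.Wreath

open Cfsg.Agent.DCoset Cfsg.Agent.CosetCert

theorem upTo_0 : allFrom (Steps.check steps rules tab) 0 250 = true := steps_0

theorem upTo_1 : allFrom (Steps.check steps rules tab) 0 500 = true :=
  allFrom_append (n := 250) 250 upTo_0 steps_1

theorem upTo_2 : allFrom (Steps.check steps rules tab) 0 750 = true :=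
  allFrom_append (n := 250) 500 upTo_1 steps_2

theorem upTo_3 : allFrom (Steps.check steps rules tab) 0 1000 = true :=
  allFrom_append (n := 250) 750 upTo_2 steps_3

theorem upTo_4 : allFrom (Steps.check steps rules tab) 0 1250 = true :=
  allFrom_append (n := 250) 1000 upTo_3 steps_4

theorem upTo_5 : allFrom (Steps.check steps rules tab) 0 1500 = true :=
  allFrom_append (n := 250) 1250 upTo_4 steps_5

theorem upTo_6 : allFrom (Steps.check steps rules tab) 0 1750 = true :=
  allFrom_append (n := 250) 1500 upTo_5 steps_6

theorem upTo_7 : allFrom (Steps.check steps rules tab) 0 2000 = true :=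
  allFrom_append (n := 250) 1750 upTo_6 steps_7

theorem upTo_8 : allFrom (Steps.check steps rules tab) 0 2250 = true :=
  allFrom_append (n := 250) 2000 upTo_7 steps_8

theorem upTo_9 : allFrom (Steps.check steps rules tab) 0 2500 = true :=
  allFrom_append (n := 250) 2250 upTo_8 steps_9

theorem upTo_10 : allFrom (Steps.check steps rules tab) 0 2750 = true :=
  allFrom_append (n := 250) 2500 upTo_9 steps_10

theorem upTo_11 : allFrom (Steps.check steps rules tab) 0 3000 = true :=
  allFrom_append (n := 250) 2750 upTo_10 steps_11

theorem upTo_12 : allFrom (Steps.check steps rules tab) 0 3250 = true :=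
  allFrom_append (n := 250) 3000 upTo_11 steps_12

theorem upTo_13 : allFrom (Steps.check steps rules tab) 0 3500 = true :=
  allFrom_append (n := 250) 3250 upTo_12 steps_13

theorem upTo_14 : allFrom (Steps.check steps rules tab) 0 3750 = true :=
  allFrom_append (n := 250) 3500 upTo_13 steps_14

theorem upTo_15 : allFrom (Steps.check steps rules tab) 0 4000 = true :=
  allFrom_append (n := 250) 3750 upTo_14 steps_15

theorem upTo_16 : allFrom (Steps.check steps rules tab) 0 4250 = true :=
  allFrom_append (n := 250) 4000 upTo_15 steps_16

theorem upTo_17 : allFrom (Steps.check steps rules tab) 0 4500 = true :=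
  allFrom_append (n := 250) 4250 upTo_16 steps_17

theorem upTo_18 : allFrom (Steps.check steps rules tab) 0 4750 = true :=
  allFrom_append (n := 250) 4500 upTo_17 steps_18

theorem upTo_19 : allFrom (Steps.check steps rules tab) 0 5000 = true :=
  allFrom_append (n := 250) 4750 upTo_18 steps_19

theorem upTo_20 : allFrom (Steps.check steps rules tab) 0 5250 = true :=
  allFrom_append (n := 250) 5000 upTo_19 steps_20

theorem upTo_21 : allFrom (Steps.check steps rules tab) 0 5500 = true :=
  allFrom_append (n := 250) 5250 upTo_20 steps_21

theorem upTo_22 : allFrom (Steps.check steps rules tab) 0 5750 = true :=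
  allFrom_append (n := 250) 5500 upTo_21 steps_22

theorem upTo_23 : allFrom (Steps.check steps rules tab) 0 6000 = true :=
  allFrom_append (n := 250) 5750 upTo_22 steps_23

theorem upTo_24 : allFrom (Steps.check steps rules tab) 0 6250 = true :=
  allFrom_append (n := 250) 6000 upTo_23 steps_24

theorem upTo_25 : allFrom (Steps.check steps rules tab) 0 6500 = true :=
  allFrom_append (n := 250) 6250 upTo_24 steps_25

theorem upTo_26 : allFrom (Steps.check steps rules tab) 0 6750 = true :=
  allFrom_append (n := 250) 6500 upTo_25 steps_26

theorem upTo_27 : allFrom (Steps.check steps rules tab) 0 7000 = true :=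
  allFrom_append (n := 250) 6750 upTo_26 steps_27

theorem upTo_28 : allFrom (Steps.check steps rules tab) 0 7250 = true :=
  allFrom_append (n := 250) 7000 upTo_27 steps_28

theorem upTo_29 : allFrom (Steps.check steps rules tab) 0 7500 = true :=
  allFrom_append (n := 250) 7250 upTo_28 steps_29

theorem upTo_30 : allFrom (Steps.check steps rules tab) 0 7750 = true :=
  allFrom_append (n := 250) 7500 upTo_29 steps_30

theorem upTo_31 : allFrom (Steps.check steps rules tab) 0 8000 = true :=
  allFrom_append (n := 250) 7750 upTo_30 steps_31

theorem upTo_32 : allFrom (Steps.check steps rules tab) 0 8250 = true :=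
  allFrom_append (n := 250) 8000 upTo_31 steps_32

theorem upTo_33 : allFrom (Steps.check steps rules tab) 0 8500 = true :=
  allFrom_append (n := 250) 8250 upTo_32 steps_33

theorem upTo_34 : allFrom (Steps.check steps rules tab) 0 8750 = true :=
  allFrom_append (n := 250) 8500 upTo_33 steps_34

theorem upTo_35 : allFrom (Steps.check steps rules tab) 0 9000 = true :=
  allFrom_append (n := 250) 8750 upTo_34 steps_35

theorem upTo_36 : allFrom (Steps.check steps rules tab) 0 9250 = true :=
  allFrom_append (n := 250) 9000 upTo_35 steps_36

theorem upTo_37 : allFrom (Steps.check steps rules tab) 0 9500 = true :=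
  allFrom_append (n := 250) 9250 upTo_36 steps_37

theorem upTo_38 : allFrom (Steps.check steps rules tab) 0 9750 = true :=
  allFrom_append (n := 250) 9500 upTo_37 steps_38

theorem upTo_39 : allFrom (Steps.check steps rules tab) 0 10000 = true :=
  allFrom_append (n := 250) 9750 upTo_38 steps_39

theorem upTo_40 : allFrom (Steps.check steps rules tab) 0 10052 = true :=
  allFrom_append (n := 52) 10000 upTo_39 steps_40

theorem steps_ok : ∀ s, s < steps.len → Steps.check steps rules tab s = true :=
  fun _ hs => allFrom_all (n := 10052) upTo_40 hs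

theorem node_src : ∀ j, 1 ≤ j → j < steps.nNode → steps.nodeSrc j < j := fun j h1 h2 =>
  Nat.ble_eq.mp ((allFrom_iff _ _ _).1 src_all j h1 (by change j < 24 at h2; omega))

/-- The sum of the suborbit lengths. -/
theorem idx_sum : ((List.range cover.nLive).map cover.idx).sum = 95040 := by
  decide +kernel

theorem valid : cover.Valid steps rules tab 190080 where
  nP_pos := by decide
  live_zero := ⟨by decide, by decide +kernel⟩
  u_ok l hl := allFrom_all u_all hl
  tr_ok c hc := allFrom_all tr_all hc
  stab_ok m a hm ha := allFrom_all (allFrom_all stab_all hm : allFrom _ 0 (nStab m) = true) ha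
  point_ok m c hm hc := by
    change m < 14 at hm
    interval_cases m
    · exact allFrom_all point_0 hc
    · exact allFrom_all point_1 hc
    · exact allFrom_all point_2 hc
    · exact allFrom_all point_3 hc
    · exact allFrom_all point_4 hc
    · exact allFrom_all point_5 hc
    · exact allFrom_all point_6 hc
    · exact allFrom_all point_7 hc
    · exact allFrom_all point_8 hc
    · exact allFrom_all point_9 hc
    · exact allFrom_all point_10 hc
    · exact allFrom_all point_11 hc
    · exact allFrom_all point_12 hc
    · exact allFrom_all point_13 hc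
  chain_gen m l a hm hl ha := by
    change m < 14 at hm
    interval_cases m
    · exact allFrom_all (allFrom_all gen_0 hl : _) ha
    · exact allFrom_all (allFrom_all gen_1 hl : _) ha
    · exact allFrom_all (allFrom_all gen_2 hl : _) ha
    · exact allFrom_all (allFrom_all gen_3 hl : _) ha
    · exact allFrom_all (allFrom_all gen_4 hl : _) ha
    · exact allFrom_all (allFrom_all gen_5 hl : _) ha
    · exact allFrom_all (allFrom_all gen_6 hl : _) ha
    · exact allFrom_all (allFrom_all gen_7 hl : _) ha
    · exact allFrom_all (allFrom_all gen_8 hl : _) ha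
    · exact allFrom_all (allFrom_all gen_9 hl : _) ha
    · exact allFrom_all (allFrom_all gen_10 hl : _) ha
    · exact allFrom_all (allFrom_all gen_11 hl : _) ha
    · exact allFrom_all (allFrom_all gen_12 hl : _) ha
    · exact allFrom_all (allFrom_all gen_13 hl : _) ha
  chain_pt m l j hm hl hj := by
    change m < 14 at hm
    interval_cases m
    · exact allFrom_all (allFrom_all pt_0 hl : _) hj
    · exact allFrom_all (allFrom_all pt_1 hl : _) hj
    · exact allFrom_all (allFrom_all pt_2 hl : _) hj
    · exact allFrom_all (allFrom_all pt_3 hl : _) hj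
    · exact allFrom_all (allFrom_all pt_4 hl : _) hj
    · exact allFrom_all (allFrom_all pt_5 hl : _) hj
    · exact allFrom_all (allFrom_all pt_6 hl : _) hj
    · exact allFrom_all (allFrom_all pt_7 hl : _) hj
    · exact allFrom_all (allFrom_all pt_8 hl : _) hj
    · exact allFrom_all (allFrom_all pt_9 hl : _) hj
    · exact allFrom_all (allFrom_all pt_10 hl : _) hj
    · exact allFrom_all (allFrom_all pt_11 hl : _) hj
    · exact allFrom_all (allFrom_all pt_12 hl : _) hj
    · exact allFrom_all (allFrom_all pt_13 hl : _) hj
  chain_mem m l a hm hl ha := by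
    refine ⟨chOff (m * 7 + l) + a, ?_, rfl⟩
    have h := Nat.ble_eq.mp (allFrom_all (allFrom_all bounds_all hm : allFrom _ 0 7 = true) hl)
    change a < chCnt (m * 7 + l) at ha
    change chOff (m * 7 + l) + chCnt (m * 7 + l) ≤ nStab m at h
    change chOff (m * 7 + l) + a < nStab m
    omega
  idx_eq := by
    intro m hm
    change m < 14 at hm
    interval_cases m
    · decide +kernel
    · decide +kernel
    · decide +kernel
    · decide +kernel
    · decide +kernel
    · decide +kernel
    · decide +kernel
    · decide +kernel
    · decide +kernel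
    · decide +kernel
    · decide +kernel
    · decide +kernel
    · decide +kernel
    · decide +kernel

end Cfsg.Agent.Co3TwoM12.Cert.Wreath
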