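import Cfsg.Agent.Co3TwoM12.Cert.Wreath.CoverDefs

/-! Generated by tools/dcoset/emit.py: forests and chains. -/

set_option Elab.async false
set_option maxRecDepth 100000

namespace Cfsg.Agent.Co3TwoM12.Cert.Wreath

open Cfsg.Agent.DCoset Cfsg.Agent.CosetCert

theorem point_6 : allFrom (Cover.checkPoint cover steps rules tab 6) 0 495 = true := by
  decide +kernel

theorem gen_6 : allFrom (fun l => allFrom (QModel.checkGen tab (chainOf 6) l) 0 ((chainOf 6).nGen l)) 0 7 = true := by
  decide +kernel

theorem pt_6 : allFrom (fun l => allFrom (QModel.checkPt tab (chainOf 6) l) 0 ((chainOf 6).size l)) 0 7 = true := by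
  decide +kernel

theorem point_7 : allFrom (Cover.checkPoint cover steps rules tab 7) 0 495 = true := by
  decide +kernel

theorem gen_7 : allFrom (fun l => allFrom (QModel.checkGen tab (chainOf 7) l) 0 ((chainOf 7).nGen l)) 0 7 = true := by
  decide +kernel

theorem pt_7 : allFrom (fun l => allFrom (QModel.checkPt tab (chainOf 7) l) 0 ((chainOf 7).size l)) 0 7 = true := by
  decide +kernel

theorem point_8 : allFrom (Cover.checkPoint cover steps rules tab 8) 0 495 = true := by
  decide +kernel

theorem gen_8 : allFrom (fun l => allFrom (QModel.checkGen tab (chainOf 8) l) 0 ((chainOf 8).nGen l)) 0 7 = true := by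
  decide +kernel

theorem pt_8 : allFrom (fun l => allFrom (QModel.checkPt tab (chainOf 8) l) 0 ((chainOf 8).size l)) 0 7 = true := by
  decide +kernel


end Cfsg.Agent.Co3TwoM12.Cert.Wreath
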